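import Groth.Agent.Lib.SqZeroLift.DerHom
import Groth.Agent.Lib.Kaehler.DOmega
import Groth.Agent.Lib.Kaehler.Finite
import Groth.Agent.Lib.Kaehler.ToSect
import Groth.Agent.Lib.Kaehler.Chart
import Groth.Agent.Lib.StalkLoc.Basic
import Groth.Agent.Lib.Modules.StalkModule
import Groth.Agent.Lib.DerivedOX.PullbackStalk
import Groth.Prelude.Def_RefHull

/-!
# Local homomorphisms out of `g^* Ω` are derivations

For `q : Y ⟶ S`, `g : T ⟶ Y` and a module `M` on `T`: a section of `Hom(g^* Ω_{Y/S}, M)` over `W`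
is the same as a compatible family of derivations `Γ(Y, V) → Γ(M, g⁻¹V ∩ W)`.
-/

noncomputable section

universe u

open CategoryTheory CategoryTheory.Limits AlgebraicGeometry TopologicalSpace Opposite
open scoped TensorProduct

namespace Groth.Agent.H26.SqU.DerHom

open Groth.Agent.Lib.SqZeroLift.DerHom (DerOn)
open OmegaSh Groth.Agent.Lib Groth.Agent.Lib.Kaehler.Basic Groth.Agent.Lib.DerivedOX.PullbackStalk

variable {Y S T : Scheme.{u}} (q : Y ⟶ S) (g : T ⟶ Y) (M : T.Modules)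

/-- A chosen universal module of differentials, for every morphism. -/
def Ωu : Y.Modules := (Kaehler.Exists.exists_isUniversal q).choose

/-- Its derivation. -/
def du : Der q (Ωu q) := (Kaehler.Exists.exists_isUniversal q).choose_spec.choose

theorem isUniversal_du : IsUniversal (du q) :=
  (Kaehler.Exists.exists_isUniversal q).choose_spec.choose_spec

/-- The derivation on sections. -/
def derU (A : S.Opens) (B : Y.Opens) (e : B ≤ q ⁻¹ᵁ A) :
    (OmAff.sectMod (Ωu q) B).Derivation (q.appLE A B e) :=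
  ModuleCat.Derivation.mk (fun b => (du q).app B b) (fun a b => map_add _ a b)
    (fun a b => der_app_mul (du q) B a b) (fun c => der_app_appLE (du q) A B e c)

/-- Kähler differentials to sections. -/
def toSectU (A : S.Opens) (B : Y.Opens) (e : B ≤ q ⁻¹ᵁ A) :
    CommRingCat.KaehlerDifferential (q.appLE A B e) ⟶ OmAff.sectMod (Ωu q) B :=
  (derU q A B e).desc

theorem toSectU_d (A : S.Opens) (B : Y.Opens) (e : B ≤ q ⁻¹ᵁ A) (b : Γ(Y, B)) :
    toSectU q A B e (CommRingCat.KaehlerDifferential.d b) = (du q).app B b :=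
  (derU q A B e).desc_d b

theorem isIso_toSectU {U : Y.Opens} {V : S.Opens}
    (hU : IsAffineOpen U) (hV : IsAffineOpen V) (h : U ≤ q ⁻¹ᵁ V) :
    IsIso (toSectU q V U h) := by
  let φ := q.appLE V U h
  let j := hU.fromSpec
  obtain ⟨d', hd', hc⟩ := Kaehler.OpenImm.exists_isUniversal_pullback (f' := Spec.map φ) j hV.fromSpec
    (IsAffineOpen.SpecMap_appLE_fromSpec q hV hU h) (isUniversal_du q)
  obtain ⟨d'', hd'', hval⟩ := Kaehler.AffineUniv.exists_isUniversal_tilde φ
  obtain ⟨e, he⟩ := exists_iso_of_isUniversal hd' hd''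
  have htop : (⊤ : (Spec Γ(Y, U)).Opens) ≤ j ⁻¹ᵁ U := hU.fromSpec_preimage_self.ge
  let w : Γ(Ωu q, U) → Γ(Kaehler.AffineUniv.omegaAff φ, ⊤) := fun y =>
    (Kaehler.AffineUniv.omegaAff φ).presheaf.map (homOfLE htop).op (e.hom.app (j ⁻¹ᵁ U) (pullSect j _ U y))
  have hres : ∀ r : Γ(Y, U), (Spec Γ(Y, U)).presheaf.map (homOfLE htop).op (j.app U r) =
      (Scheme.ΓSpecIso Γ(Y, U)).inv r := fun r => by
    rw [hU.fromSpec_app_self, ConcreteCategory.comp_apply, ← ConcreteCategory.comp_apply, ← Functor.map_comp,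
      Subsingleton.elim (_ ≫ _) (𝟙 (op (⊤ : (Spec Γ(Y, U)).Opens))), CategoryTheory.Functor.map_id]
    rfl
  have hw : Function.Bijective w := by
    have hi : IsIso (homOfLE htop) := ⟨homOfLE hU.fromSpec_preimage_self.le, rfl, rfl⟩
    exact (ConcreteCategory.bijective_of_isIso ((Kaehler.AffineUniv.omegaAff φ).presheaf.map (homOfLE htop).op)).comp
      ((ConcreteCategory.bijective_of_isIso (e.hom.app (j ⁻¹ᵁ U))).comp
        (Kaehler.ToSect.bijective_pullSect j _ U (hU.opensRange_fromSpec.ge)))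
  rw [ConcreteCategory.isIso_iff_bijective]
  refine Kaehler.ToSect.bijective_of_iso φ
    (tilde.toOpen (CommRingCat.KaehlerDifferential φ) ⊤) _ w hw ?_ ?_ ?_
  · intro x y
    simp only [w, map_add]
    rfl
  · intro b x
    simp only [w]
    rw [map_smul]
    erw [Kaehler.ToSect.pullSect_smul, Scheme.Modules.Hom.app_smul, Scheme.Modules.map_smul, hres,
      Kaehler.AffineUniv.top_smul, Iso.inv_hom_id_apply]
  · intro b
    simp only [w]
    rw [toSectU_d]
    have h1 := hc U b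
    have h2 : d''.app (j ⁻¹ᵁ U) (j.app U b) = e.hom.app (j ⁻¹ᵁ U) (d'.app (j ⁻¹ᵁ U) (j.app U b)) := by
      rw [← he]; rfl
    erw [h1, ← h2, ← der_app_map d'' htop, hres]
    exact hval b

/-- The pullback of `Ω`. -/
abbrev gΩ : T.Modules := (Scheme.Modules.pullback g).obj (Ωu q)

/-- The germ of a pulled back differential. -/
def gen (V : Y.Opens) (y : T) (hy : g y ∈ V) (a : Γ(Y, V)) : (gΩ q g).presheaf.stalk y :=
  (gΩ q g).presheaf.germ (g ⁻¹ᵁ V) y hy (pullSect g (Ωu q) V ((du q).app V a))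

/-- The semilinear map of stalks. -/
abbrev ust (N : Y.Modules) (y : T) : N.presheaf.stalk (g y) → ((Scheme.Modules.pullback g).obj N).presheaf.stalk y :=
  fun a => pushStalkMap g y _
    (Modules.StalkModule.stalkMapₗ ((Scheme.Modules.pullbackPushforwardAdjunction g).unit.app N) (g y) a)

lemma ust_germ (N : Y.Modules) {V : Y.Opens} {y : T} (hy : g y ∈ V) (m : Γ(N, V)) :
    ust g N y (N.presheaf.germ V (g y) hy m) =
      ((Scheme.Modules.pullback g).obj N).presheaf.germ (g ⁻¹ᵁ V) y hy (pullSect g N V m) := by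
  show pushStalkMap g y _ (Modules.StalkModule.stalkMapₗ _ (g y) _) = _
  refine (congrArg (pushStalkMap g y _) (Modules.StalkModule.stalkMapₗ_germ _ hy m)).trans ?_
  exact pushStalkMap_germ g y _ hy _

lemma ust_smul (N : Y.Modules) (y : T) (c : Y.presheaf.stalk (g y)) (a : N.presheaf.stalk (g y)) :
    ust g N y (c • a) = (g.stalkMap y).hom c • ust g N y a := by
  show pushStalkMap g y _ (Modules.StalkModule.stalkMapₗ _ (g y) (c • a)) = _
  rw [map_smul]
  exact pushStalkMap_smul g y _ c _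

lemma ust_add (N : Y.Modules) (y : T) (a b : N.presheaf.stalk (g y)) :
    ust g N y (a + b) = ust g N y a + ust g N y b := by
  show pushStalkMap g y _ (Modules.StalkModule.stalkMapₗ _ (g y) (a + b)) = _
  rw [map_add]
  exact map_add _ _ _

lemma ust_zero (N : Y.Modules) (y : T) : ust g N y 0 = 0 := by
  show pushStalkMap g y _ (Modules.StalkModule.stalkMapₗ _ (g y) 0) = _
  rw [map_zero]
  exact map_zero _

/-- The stalk of a pullback is generated by pulled back germs. -/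
theorem span_ust (N : Y.Modules) (y : T) :
    Submodule.span (T.presheaf.stalk y) (Set.range (ust g N y)) = ⊤ := by
  letI : Algebra (Y.presheaf.stalk (g y)) (T.presheaf.stalk y) := (g.stalkMap y).hom.toAlgebra
  haveI := isIso_comparison g y
  rw [eq_top_iff]
  intro v _
  obtain ⟨z, rfl⟩ := (ConcreteCategory.bijective_of_isIso ((comparison g y).app N)).2 v
  let C : T.presheaf.stalk y ⊗[Y.presheaf.stalk (g y)] N.presheaf.stalk (g y) →ₗ[T.presheaf.stalk y]
      ((Scheme.Modules.pullback g).obj N).presheaf.stalk y := ((comparison g y).app N).hom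
  suffices hC : ∀ w : T.presheaf.stalk y ⊗[Y.presheaf.stalk (g y)] N.presheaf.stalk (g y),
      C w ∈ Submodule.span (T.presheaf.stalk y) (Set.range (ust g N y)) from hC z
  intro w
  induction w using TensorProduct.induction_on with
  | zero => rw [map_zero]; exact zero_mem _
  | tmul c a =>
    have e : (c ⊗ₜ[Y.presheaf.stalk (g y)] a : T.presheaf.stalk y ⊗[Y.presheaf.stalk (g y)] N.presheaf.stalk (g y)) =
        c • ((1 : T.presheaf.stalk y) ⊗ₜ[Y.presheaf.stalk (g y)] a) := by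
      rw [TensorProduct.smul_tmul', smul_eq_mul, mul_one]
    rw [e, map_smul, show C (1 ⊗ₜ[Y.presheaf.stalk (g y)] a) = ust g N y a from comparison_one_tmul g y N a]
    exact Submodule.smul_mem _ _ (Submodule.subset_span ⟨a, rfl⟩)
  | add a b ha hb => rw [map_add]; exact add_mem ha hb


/-- Pulled back differentials generate. -/
theorem span_gen (y : T) :
    Submodule.span (T.presheaf.stalk y)
      {v | ∃ (V : Y.Opens) (hy : g y ∈ V) (a : Γ(Y, V)), gen q g V y hy a = v} = ⊤ := by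
  rw [eq_top_iff, ← span_ust g (Ωu q) y, Submodule.span_le]
  rintro _ ⟨v, rfl⟩
  obtain ⟨A, B, hA, hB, hy, e⟩ := Kaehler.Chart.exists_chart q (g y)
  haveI := Kaehler.Finite.isQuasicoherent (isUniversal_du q)
  haveI := isIso_toSectU q hB hA e
  letI : Algebra Γ(S, A) Γ(Y, B) := (q.appLE A B e).hom.toAlgebra
  let E : Ω[Γ(Y, B)⁄Γ(S, A)] ≃ₗ[Γ(Y, B)] Γ(Ωu q, B) :=
    (asIso (toSectU q A B e)).toLinearEquiv
  obtain ⟨a, t, hxa, hat⟩ := StalkLoc.Basic.exists_smul_eq_germ hB hy v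
  obtain ⟨ω, rfl⟩ := E.surjective t
  have hu := ((Y.mem_basicOpen a (g y) hy).mp hxa).map (g.stalkMap y).hom
  show ust g _ y v ∈ _
  refine (Submodule.smul_mem_iff_of_isUnit _ hu).1 ?_
  erw [← ust_smul, hat]
  clear hat
  have hω : ω ∈ Submodule.span Γ(Y, B) (Set.range (KaehlerDifferential.D Γ(S, A) Γ(Y, B))) := by
    rw [KaehlerDifferential.span_range_derivation]; exact Submodule.mem_top
  induction hω using Submodule.span_induction with
  | mem ω hω =>
    obtain ⟨b, rfl⟩ := hω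
    refine Submodule.subset_span ⟨B, hy, b, ?_⟩
    rw [ust_germ]
    exact congrArg (fun w => (gΩ q g).presheaf.germ (g ⁻¹ᵁ B) y hy (pullSect g (Ωu q) B w))
      (toSectU_d q A B e b).symm
  | zero => rw [map_zero, map_zero, ust_zero]; exact zero_mem _
  | add p p' _ _ hp hp' => rw [map_add, map_add, ust_add]; exact add_mem hp hp'
  | smul r p _ hp =>
    rw [map_smul, Modules.StalkModule.germ_smul hy r (E p), ust_smul]
    exact Submodule.smul_mem _ _ hp

variable {q g M}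

lemma lin_ext {y : T} {P : Type u} [AddCommGroup P] [Module (T.presheaf.stalk y) P]
    {L L' : (gΩ q g).presheaf.stalk y →ₗ[T.presheaf.stalk y] P}
    (h : ∀ (V : Y.Opens) (hy : g y ∈ V) (a : Γ(Y, V)), L (gen q g V y hy a) = L' (gen q g V y hy a)) : L = L' :=
  LinearMap.ext_on (span_gen q g y) fun _ ⟨V, hy, a, ha⟩ => ha ▸ h V hy a

variable {W : T.Opens} (δ : DerOn q g M W)

/-- The germ of a value. -/
def germD (V : Y.Opens) (y : T) (hy : g y ∈ V) (hW : y ∈ W) (a : Γ(Y, V)) : M.presheaf.stalk y :=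
  M.presheaf.germ (g ⁻¹ᵁ V ⊓ W) y ⟨hy, hW⟩ (δ.d V a)

lemma germD_mul (V : Y.Opens) (y : T) (hy : g y ∈ V) (hW : y ∈ W) (a b : Γ(Y, V)) :
    germD δ V y hy hW (a * b) =
      (g.stalkMap y).hom (Y.presheaf.germ V (g y) hy a) • germD δ V y hy hW b +
      (g.stalkMap y).hom (Y.presheaf.germ V (g y) hy b) • germD δ V y hy hW a := by
  have e : ∀ c : Γ(Y, V), T.presheaf.germ (g ⁻¹ᵁ V ⊓ W) y ⟨hy, hW⟩ ((g.appLE V (g ⁻¹ᵁ V ⊓ W) inf_le_left).hom c) =
      (g.stalkMap y).hom (Y.presheaf.germ V (g y) hy c) := fun c => by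
    rw [Scheme.Hom.germ_stalkMap_apply]
    exact TopCat.Presheaf.germ_res_apply T.presheaf _ y _ _
  rw [germD, δ.mul, map_add, Modules.StalkModule.germ_smul, Modules.StalkModule.germ_smul, e, e]
  rfl

lemma germD_res {V V' : Y.Opens} (h : V' ≤ V) (y : T) (hy : g y ∈ V') (hW : y ∈ W) (a : Γ(Y, V)) :
    germD δ V' y hy hW ((Y.presheaf.map (homOfLE h).op).hom a) = germD δ V y (h hy) hW a := by
  rw [germD, δ.res, TopCat.Presheaf.germ_res_apply]
  rfl

lemma gen_mul (V : Y.Opens) (y : T) (hy : g y ∈ V) (a b : Γ(Y, V)) :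
    gen q g V y hy (a * b) = (g.stalkMap y).hom (Y.presheaf.germ V (g y) hy a) • gen q g V y hy b +
      (g.stalkMap y).hom (Y.presheaf.germ V (g y) hy b) • gen q g V y hy a := by
  simp only [gen, ← ust_germ]
  rw [der_app_mul, map_add, Modules.StalkModule.germ_smul, Modules.StalkModule.germ_smul, ust_add, ust_smul,
    ust_smul]

lemma gen_add (V : Y.Opens) (y : T) (hy : g y ∈ V) (a b : Γ(Y, V)) :
    gen q g V y hy (a + b) = gen q g V y hy a + gen q g V y hy b := by
  simp only [gen, map_add]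

lemma gen_res {V V' : Y.Opens} (h : V' ≤ V) (y : T) (hy : g y ∈ V') (a : Γ(Y, V)) :
    gen q g V' y hy ((Y.presheaf.map (homOfLE h).op).hom a) = gen q g V y (h hy) a := by
  simp only [gen, ← ust_germ]
  rw [show (du q).app V' ((Y.presheaf.map (homOfLE h).op).hom a) =
    (Ωu q).presheaf.map (homOfLE h).op ((du q).app V a) from der_app_map (du q) h a,
    TopCat.Presheaf.germ_res_apply]

lemma gen_base (V : S.Opens) (y : T) (hy : g y ∈ q ⁻¹ᵁ V) (c : Γ(S, V)) :
    gen q g (q ⁻¹ᵁ V) y hy ((q.app V).hom c) = 0 := by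
  simp only [gen]
  rw [show (du q).app (q ⁻¹ᵁ V) ((q.app V).hom c) = 0 from der_app_app (du q) V c, map_zero, map_zero]

/-- A semilinear map of stalks, as a morphism. -/
def semiHom (g : T ⟶ Y) {M : T.Modules} (N : Y.Modules) (y : T)
    (f : N.presheaf.stalk (g y) →+ M.presheaf.stalk y)
    (hf : ∀ (c : Y.presheaf.stalk (g y)) v, f (c • v) = (g.stalkMap y).hom c • f v) :
    (Modules.StalkModule.stalkModFunctor Y (g y)).obj N ⟶
      (ModuleCat.restrictScalars (g.stalkMap y).hom).obj ((Modules.StalkModule.stalkModFunctor T y).obj M) :=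
  ModuleCat.ofHom (Y := (ModuleCat.restrictScalars (g.stalkMap y).hom).obj
      ((Modules.StalkModule.stalkModFunctor T y).obj M))
    { toFun := fun v => f v
      map_add' := fun a b => map_add f a b
      map_smul' := fun c v => hf c v }

lemma semiHom_apply (g : T ⟶ Y) {M : T.Modules} (N : Y.Modules) (y : T)
    (f : N.presheaf.stalk (g y) →+ M.presheaf.stalk y)
    (hf : ∀ (c : Y.presheaf.stalk (g y)) v, f (c • v) = (g.stalkMap y).hom c • f v) (v : N.presheaf.stalk (g y)) :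
    (semiHom g N y f hf).hom v = f v := rfl

/-- The linear map of stalks of a family of derivations. -/
theorem exists_linear (y : T) (hW : y ∈ W) :
    ∃ L : (gΩ q g).presheaf.stalk y →ₗ[T.presheaf.stalk y] M.presheaf.stalk y,
      ∀ (V : Y.Opens) (hy : g y ∈ V) (a : Γ(Y, V)), L (gen q g V y hy a) = germD δ V y hy hW a := by
  obtain ⟨A, B, hA, hB, hy, e⟩ := Kaehler.Chart.exists_chart q (g y)
  haveI := Kaehler.Finite.isQuasicoherent (isUniversal_du q)
  haveI := isIso_toSectU q hB hA e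
  letI algAB : Algebra Γ(S, A) Γ(Y, B) := (q.appLE A B e).hom.toAlgebra
  let E : Ω[Γ(Y, B)⁄Γ(S, A)] ≃ₗ[Γ(Y, B)] Γ(Ωu q, B) :=
    (asIso (toSectU q A B e)).toLinearEquiv
  let φ : Γ(Y, B) →+* T.presheaf.stalk y :=
    (g.stalkMap y).hom.comp (Y.presheaf.germ B (g y) hy).hom
  letI : Module Γ(Y, B) (M.presheaf.stalk y) := Module.compHom _ φ
  letI : Module Γ(S, A) (M.presheaf.stalk y) := Module.compHom _ (φ.comp (algebraMap Γ(S, A) Γ(Y, B)))
  haveI : IsScalarTower Γ(S, A) Γ(Y, B) (M.presheaf.stalk y) :=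
    IsScalarTower.of_algebraMap_smul fun _ _ => rfl
  have hconst : ∀ c : Γ(S, A), germD δ B y hy hW (algebraMap Γ(S, A) Γ(Y, B) c) = 0 := fun c => by
    show germD δ B y hy hW ((Y.presheaf.map (homOfLE e).op).hom ((q.app A).hom c)) = 0
    rw [germD_res, germD, δ.base, map_zero]
  let D₀ : Derivation Γ(S, A) Γ(Y, B) (M.presheaf.stalk y) :=
    Derivation.mk'
      { toFun := fun b => germD δ B y hy hW b
        map_add' := fun a b => by
          show M.presheaf.germ (g ⁻¹ᵁ B ⊓ W) y ⟨hy, hW⟩ (δ.d B (a + b)) = _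
          rw [map_add, map_add]
          rfl
        map_smul' := fun c b => by
          rw [RingHom.id_apply, Algebra.smul_def, germD_mul, hconst, smul_zero, add_zero]
          rfl }
      fun a b => germD_mul δ B y hy hW a b
  haveI := hB.isLocalization_stalk ⟨g y, hy⟩
  letI := StalkLoc.Basic.moduleSections (Ωu q) hy
  haveI := StalkLoc.Basic.isLocalizedModule_germ (M := Ωu q) hB hy
  letI : Algebra Γ(Y, B) (Y.presheaf.stalk (g y)) := TopCat.Presheaf.algebra_section_stalk Y.presheaf ⟨g y, hy⟩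
  let p := (hB.primeIdealOf ⟨g y, hy⟩).asIdeal.primeCompl
  let ℓ₁ : Γ(Ωu q, B) →ₗ[Γ(Y, B)] M.presheaf.stalk y := D₀.liftKaehlerDifferential ∘ₗ E.symm.toLinearMap
  have hun : ∀ s : p, IsUnit (φ s.1) := fun s =>
    (IsLocalization.map_units (Y.presheaf.stalk (g y)) s).map (g.stalkMap y).hom
  have hunit : ∀ s : p, IsUnit (algebraMap Γ(Y, B) (Module.End Γ(Y, B) (M.presheaf.stalk y)) s.1) := fun s => by
    obtain ⟨w, hw⟩ := hun s
    rw [Module.End.isUnit_iff]
    refine ⟨fun a b hab => ?_, fun b => ⟨(↑w⁻¹ : T.presheaf.stalk y) • b, ?_⟩⟩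
    · have h1 : (φ s.1) • a = (φ s.1) • b := hab
      exact (hun s).smul_left_cancel.1 h1
    · show φ s.1 • ((↑w⁻¹ : T.presheaf.stalk y) • b) = b
      rw [← hw, smul_smul, Units.mul_inv, one_smul]
  let ℓ : (Ωu q).presheaf.stalk (g y) →ₗ[Γ(Y, B)] M.presheaf.stalk y :=
    IsLocalizedModule.lift p (StalkLoc.Basic.germₗ (Ωu q) hy) ℓ₁ hunit
  have hℓ : ∀ b : Γ(Y, B), ℓ ((Ωu q).presheaf.germ B (g y) hy ((du q).app B b)) =
      germD δ B y hy hW b := fun b => by
    show ℓ (StalkLoc.Basic.germₗ (Ωu q) hy ((du q).app B b)) = _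
    rw [IsLocalizedModule.lift_apply]
    show D₀.liftKaehlerDifferential (E.symm _) = _
    rw [show (du q).app B b = E (KaehlerDifferential.D Γ(S, A) Γ(Y, B) b) from
      (toSectU_d q A B e b).symm, LinearEquiv.symm_apply_apply, Derivation.liftKaehlerDifferential_comp_D]
    rfl
  have hsemi : ∀ (c : Y.presheaf.stalk (g y)) (v : (Ωu q).presheaf.stalk (g y)),
      ℓ (c • v) = (g.stalkMap y).hom c • ℓ v := fun c v => by
    obtain ⟨⟨b, s⟩, hbs⟩ := IsLocalization.surj p c
    have e1 : φ s.1 • ℓ (c • v) = φ b • ℓ v := by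
      show s.1 • ℓ (c • v) = b • ℓ v
      rw [← map_smul, ← map_smul]
      refine congrArg ℓ ?_
      show algebraMap Γ(Y, B) (Y.presheaf.stalk (g y)) s.1 • c • v = algebraMap Γ(Y, B) (Y.presheaf.stalk (g y)) b • v
      exact (smul_smul _ _ v).trans (congrArg (· • v) ((mul_comm _ _).trans hbs))
    refine (hun s).smul_left_cancel.1 (e1.trans ?_)
    have e2 : (g.stalkMap y).hom c * φ s.1 = φ b := by
      show _ * (g.stalkMap y).hom _ = (g.stalkMap y).hom _
      rw [← map_mul]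
      exact congrArg _ hbs
    rw [smul_smul, mul_comm, e2]
  let e₀ := (ModuleCat.extendRestrictScalarsAdj.{u} (g.stalkMap y).hom).homEquiv
      ((Modules.StalkModule.stalkModFunctor Y (g y)).obj (Ωu q))
      ((Modules.StalkModule.stalkModFunctor T y).obj M)
  let ψ₀ := semiHom g (M := M) (Ωu q) y ℓ.toAddMonoidHom hsemi
  let ψ := e₀.symm ψ₀
  haveI := isIso_comparison g y
  let L : (gΩ q g).presheaf.stalk y →ₗ[T.presheaf.stalk y] M.presheaf.stalk y :=
    (inv ((comparison g y).app (Ωu q)) ≫ ψ).hom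
  have hu : ∀ v, L (ust g (Ωu q) y v) = ℓ v := fun v => by
    show ψ.hom ((inv ((comparison g y).app (Ωu q))).hom (ust g (Ωu q) y v)) = _
    rw [show ust g (Ωu q) y v = _ from (comparison_one_tmul g y (Ωu q) v).symm]
    erw [CategoryTheory.IsIso.hom_inv_id_apply]
    refine (ModuleCat.extendRestrictScalarsAdj_homEquiv_apply.{u} ψ v).symm.trans ?_
    show (e₀ ψ).hom v = _
    rw [show e₀ ψ = ψ₀ from Equiv.apply_symm_apply e₀ ψ₀]
    rfl
  have hB' : ∀ b : Γ(Y, B), L (gen q g B y hy b) = germD δ B y hy hW b := fun b => by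
    rw [gen, ← ust_germ, hu, hℓ]
  refine ⟨L, fun V hyV a => ?_⟩
  obtain ⟨⟨b, s⟩, hbs⟩ := IsLocalization.surj p (Y.presheaf.germ V (g y) hyV a)
  obtain ⟨V', hV', i, j, heq⟩ := TopCat.Presheaf.germ_eq Y.presheaf (g y) (U := V ⊓ B) (V := B) ⟨hyV, hy⟩ hy
    ((Y.presheaf.map (homOfLE inf_le_left).op).hom a * (Y.presheaf.map (homOfLE inf_le_right).op).hom s.1) b
    (by rw [map_mul, TopCat.Presheaf.germ_res_apply, TopCat.Presheaf.germ_res_apply]; exact hbs)
  have h1 : L (gen q g (V ⊓ B) y ⟨hyV, hy⟩ ((Y.presheaf.map (homOfLE inf_le_left).op).hom a *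
      (Y.presheaf.map (homOfLE inf_le_right).op).hom s.1)) =
      germD δ (V ⊓ B) y ⟨hyV, hy⟩ hW ((Y.presheaf.map (homOfLE inf_le_left).op).hom a *
      (Y.presheaf.map (homOfLE inf_le_right).op).hom s.1) := by
    rw [← gen_res i.le y hV', ← germD_res δ i.le y hV']
    erw [heq]
    erw [gen_res j.le y hV', germD_res δ j.le y hV']
    exact hB' b
  rw [gen_mul, germD_mul, map_add, map_smul, map_smul, gen_res, gen_res, germD_res, germD_res, hB',
    TopCat.Presheaf.germ_res_apply, TopCat.Presheaf.germ_res_apply] at h1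
  exact (hun s).smul_left_cancel.1 (add_left_cancel h1)

/-- The stalk maps of a family of derivations. -/
def lin (y : W) : RefHull.StalkHom (gΩ q g) M y.1 := (exists_linear δ y.1 y.2).choose

lemma lin_gen (y : W) (V : Y.Opens) (hy : g y.1 ∈ V) (a : Γ(Y, V)) :
    lin δ y (gen q g V y.1 hy a) = germD δ V y.1 hy y.2 a := (exists_linear δ y.1 y.2).choose_spec V hy a

/-- The section of `Hom(g^*Ω, M)` of a family of derivations. -/
theorem isLocSect_lin : RefHull.IsLocSect (gΩ q g) M (lin δ) := by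
  intro V i m y
  let P : (gΩ q g).presheaf.stalk y.1 → Prop := fun v => ∃ (O : T.Opens) (hO : O ≤ W) (hy : y.1 ∈ O)
    (m' : Γ(gΩ q g, O)) (n : Γ(M, O)), (gΩ q g).presheaf.germ O y.1 hy m' = v ∧
      ∀ (z : T) (hz : z ∈ O), lin δ ⟨z, hO hz⟩ ((gΩ q g).presheaf.germ O z hz m') = M.presheaf.germ O z hz n
  have hP : ∀ v, P v := by
    intro v
    have hv : v ∈ Submodule.span (T.presheaf.stalk y.1)
        {v | ∃ (V : Y.Opens) (hy : g y.1 ∈ V) (a : Γ(Y, V)), gen q g V y.1 hy a = v} := by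
      rw [span_gen]; exact Submodule.mem_top
    induction hv using Submodule.span_induction with
    | mem v hv =>
      obtain ⟨V', hy, a, rfl⟩ := hv
      refine ⟨g ⁻¹ᵁ V' ⊓ W, inf_le_right, ⟨hy, i.le y.2⟩,
        (gΩ q g).presheaf.map (homOfLE inf_le_left).op (pullSect g (Ωu q) V' ((du q).app V' a)),
        δ.d V' a, ?_, fun z hz => ?_⟩
      · exact TopCat.Presheaf.germ_res_apply _ _ _ _ _
      · rw [TopCat.Presheaf.germ_res_apply]
        exact lin_gen δ ⟨z, hz.2⟩ V' hz.1 a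
    | zero => exact ⟨V, i.le, y.2, 0, 0, map_zero _, fun z hz => by rw [map_zero, map_zero, map_zero]⟩
    | add v w _ _ hv hw =>
      obtain ⟨O₁, hO₁, hy₁, m₁, n₁, rfl, h₁⟩ := hv
      obtain ⟨O₂, hO₂, hy₂, m₂, n₂, rfl, h₂⟩ := hw
      refine ⟨O₁ ⊓ O₂, inf_le_left.trans hO₁, ⟨hy₁, hy₂⟩,
        (gΩ q g).presheaf.map (homOfLE inf_le_left).op m₁ + (gΩ q g).presheaf.map (homOfLE inf_le_right).op m₂,
        M.presheaf.map (homOfLE inf_le_left).op n₁ + M.presheaf.map (homOfLE inf_le_right).op n₂, ?_, fun z hz => ?_⟩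
      · rw [map_add, TopCat.Presheaf.germ_res_apply, TopCat.Presheaf.germ_res_apply]
      · simp only [map_add, TopCat.Presheaf.germ_res_apply]
        rw [h₁ z hz.1, ← h₂ z hz.2]
    | smul c v _ hv =>
      obtain ⟨O₁, hO₁, hy₁, m₁, n₁, rfl, h₁⟩ := hv
      obtain ⟨O₂, hy₂, r, rfl⟩ := T.presheaf.exists_germ_eq c
      let r' : Γ(T, O₁ ⊓ O₂) := (T.presheaf.map (homOfLE (inf_le_right : O₁ ⊓ O₂ ≤ O₂)).op).hom r
      let m₁' : Γ(gΩ q g, O₁ ⊓ O₂) := (gΩ q g).presheaf.map (homOfLE (inf_le_left : O₁ ⊓ O₂ ≤ O₁)).op m₁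
      let n₁' : Γ(M, O₁ ⊓ O₂) := M.presheaf.map (homOfLE (inf_le_left : O₁ ⊓ O₂ ≤ O₁)).op n₁
      refine ⟨O₁ ⊓ O₂, inf_le_left.trans hO₁, ⟨hy₁, hy₂⟩, r' • m₁', r' • n₁', ?_, fun z hz => ?_⟩
      · simp only [r', m₁', Modules.StalkModule.germ_smul, TopCat.Presheaf.germ_res_apply]
      · simp only [r', m₁', n₁', Modules.StalkModule.germ_smul, map_smul, TopCat.Presheaf.germ_res_apply]
        rw [h₁ z hz.1]
  obtain ⟨O, hO, hy, m', n, hm', hn⟩ := hP ((gΩ q g).presheaf.germ V y.1 y.2 m)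
  obtain ⟨O', hy', a, b, hab⟩ := TopCat.Presheaf.germ_eq (gΩ q g).presheaf y.1 y.2 hy m m' hm'.symm
  refine ⟨O', hy', a, M.presheaf.map b.op n, fun z => ?_⟩
  rw [TopCat.Presheaf.germ_res_apply, ← hn z.1 (b.le z.2), ← TopCat.Presheaf.germ_res_apply _ a z.1 z.2 m,
    ← TopCat.Presheaf.germ_res_apply _ b z.1 z.2 m', hab]

/-- The section attached to a family of derivations. -/
def secOf : Γ(RefHull.homSh (gΩ q g) M, W) := ⟨lin δ, isLocSect_lin δ⟩

lemma secOf_gen (y : W) (V : Y.Opens) (hy : g y.1 ∈ V) (a : Γ(Y, V)) :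
    (secOf δ).1 y (gen q g V y.1 hy a) = M.presheaf.germ (g ⁻¹ᵁ V ⊓ W) y.1 ⟨hy, y.2⟩ (δ.d V a) :=
  lin_gen δ y V hy a

theorem sec_ext {s t : Γ(RefHull.homSh (gΩ q g) M, W)}
    (h : ∀ (y : W) (V : Y.Opens) (hy : g y.1 ∈ V) (a : Γ(Y, V)),
      s.1 y (gen q g V y.1 hy a) = t.1 y (gen q g V y.1 hy a)) : s = t :=
  Subtype.ext (funext fun y => lin_ext (h y))

/-- Every section comes from a family of derivations. -/
theorem exists_der (s : Γ(RefHull.homSh (gΩ q g) M, W)) : ∃ δ : DerOn q g M W, secOf δ = s := by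
  classical
  let Sh : TopCat.Sheaf Ab T.toTopCat := ⟨M.presheaf, M.isSheaf⟩
  have glue : ∀ (V : Y.Opens) (a : Γ(Y, V)), ∃ n : Γ(M, g ⁻¹ᵁ V ⊓ W), ∀ (z : T) (hz : z ∈ g ⁻¹ᵁ V ⊓ W),
      M.presheaf.germ _ z hz n = s.1 ⟨z, hz.2⟩ (gen q g V z hz.1 a) := by
    intro V a
    choose O hzO j n hn using fun z : ↥(g ⁻¹ᵁ V ⊓ W) =>
      RefHull.isLocSect_of_mem s (g ⁻¹ᵁ V ⊓ W) (homOfLE inf_le_right)
        ((gΩ q g).presheaf.map (homOfLE inf_le_left).op (pullSect g (Ωu q) V ((du q).app V a))) z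
    have hn' : ∀ (z : ↥(g ⁻¹ᵁ V ⊓ W)) (w : T) (hw : w ∈ O z),
        M.presheaf.germ (O z) w hw (n z) = s.1 ⟨w, ((j z).le hw).2⟩ (gen q g V w ((j z).le hw).1 a) :=
      fun z w hw => by
        rw [← hn z ⟨w, hw⟩, TopCat.Presheaf.germ_res_apply]
        rfl
    obtain ⟨N, hN, -⟩ := Sh.existsUnique_gluing' O (g ⁻¹ᵁ V ⊓ W) j
      (fun z hz => Opens.mem_iSup.2 ⟨⟨z, hz⟩, hzO ⟨z, hz⟩⟩) n (fun z z' => by
        refine TopCat.Presheaf.section_ext Sh _ _ _ fun w hw => ?_
        show M.presheaf.germ _ w hw (M.presheaf.map _ (n z)) = M.presheaf.germ _ w hw (M.presheaf.map _ (n z'))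
        rw [TopCat.Presheaf.germ_res_apply, TopCat.Presheaf.germ_res_apply, hn', hn'])
    refine ⟨N, fun z hz => ?_⟩
    have e : M.presheaf.germ (O ⟨z, hz⟩) z (hzO ⟨z, hz⟩) (M.presheaf.map (j ⟨z, hz⟩).op N) =
        M.presheaf.germ (O ⟨z, hz⟩) z (hzO ⟨z, hz⟩) (n ⟨z, hz⟩) := congrArg _ (hN ⟨z, hz⟩)
    rw [TopCat.Presheaf.germ_res_apply] at e
    exact e.trans (hn' ⟨z, hz⟩ z _)
  choose d hd using glue
  have ext' : ∀ {O : T.Opens} (u v : Γ(M, O)), (∀ (z : T) (hz : z ∈ O), M.presheaf.germ O z hz u = M.presheaf.germ O z hz v) →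
      u = v := fun u v h => TopCat.Presheaf.section_ext Sh _ u v h
  let δ : DerOn q g M W :=
    { d := fun V => AddMonoidHom.mk' (d V) fun a b => ext' _ _ fun z hz => by
        rw [map_add, hd, hd, hd, gen_add, map_add]
      mul := fun V a b => ext' _ _ fun z hz => by
        show M.presheaf.germ _ z hz (d V (a * b)) = _
        rw [hd, gen_mul, map_add, map_smul, map_smul, map_add, Modules.StalkModule.germ_smul,
          Modules.StalkModule.germ_smul]
        show _ = _ • M.presheaf.germ _ z hz (d V b) + _ • M.presheaf.germ _ z hz (d V a)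
        rw [hd, hd]
        have e : ∀ c : Γ(Y, V), T.presheaf.germ _ z hz ((g.appLE V (g ⁻¹ᵁ V ⊓ W) inf_le_left).hom c) =
            (g.stalkMap z).hom (Y.presheaf.germ V (g z) hz.1 c) := fun c => by
          rw [Scheme.Hom.germ_stalkMap_apply]
          exact TopCat.Presheaf.germ_res_apply T.presheaf _ z _ _
        rw [e, e]
      res := fun {V V'} h a => ext' _ _ fun z hz => by
        show M.presheaf.germ _ z hz (d V' _) = _
        rw [hd, gen_res]
        refine Eq.trans ?_ (TopCat.Presheaf.germ_res_apply M.presheaf _ z hz _).symm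
        exact (hd V a z _).symm
      base := fun V c => ext' _ _ fun z hz => by
        show M.presheaf.germ _ z hz (d _ _) = _
        rw [hd, gen_base, map_zero, map_zero] }
  exact ⟨δ, sec_ext fun y V hy a => (secOf_gen δ y V hy a).trans (hd V a y.1 ⟨hy, y.2⟩)⟩

end Groth.Agent.H26.SqU.DerHom
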