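import Groth.Agent.Lib.SqZeroLift.Unique
import Groth.Agent.H26.SqU.DerHom
import Groth.Agent.H95.Torsor.Vanish
import Groth.Prelude.Def_Coh

/-!
# Local lifts glue when `H¹(Hom(g^*Ω, J))` vanishes
-/

noncomputable section

universe u

open CategoryTheory CategoryTheory.Limits AlgebraicGeometry TopologicalSpace Opposite
open Groth.Agent.Lib.SqZeroLift.DerHom (DerOn)
open Groth.Agent.Lib.SqZeroLift Groth.Agent.Lib.SqZeroLift.Thick Groth.Agent.H26.SqU.DerHom Groth.Agent.Lib.SqZeroLift.Lift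
open Groth.Agent.Lib.Cech.Complex

namespace Groth.Agent.H26.SqU.Coboundary

variable {Y S T₀ T : Scheme.{u}} {p : T ⟶ S} {q : Y ⟶ S} {i : T₀ ⟶ T} [hi : SqZero i] {g : T₀ ⟶ Y}

lemma germ_derRestrict {M : T₀.Modules} {W W' : T₀.Opens} (δ : DerOn q g M W) (h : W' ≤ W) (V : Y.Opens)
    (y : T₀) (hy : g y ∈ V) (hW : y ∈ W') (x : Γ(Y, V)) :
    M.presheaf.germ (g ⁻¹ᵁ V ⊓ W') y ⟨hy, hW⟩ ((derRestrict δ h).d V x) =
      M.presheaf.germ (g ⁻¹ᵁ V ⊓ W) y ⟨hy, h hW⟩ (δ.d V x) :=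
  TopCat.Presheaf.germ_res_apply _ _ _ _ _


/-- The cocycle of a family of local lifts. -/
def cochain (hg : g ≫ q = i ≫ p) {ι : Type u} (U : ι → T₀.Opens) (a : ∀ j, L p q i g (U j)) :
    Cochain U (Coh.toAb (RefHull.homSh (gΩ q g) (Omega.conormal i))).obj 1 := fun k =>
  secOf (diff hg (restrict hg (a (k 1)) (inter_le U k 1)) (restrict hg (a (k 0)) (inter_le U k 0)))

/-- The value of a section at a pulled back differential. -/
def ev {W : T₀.Opens} (V : Y.Opens) (y : T₀) (hy : g y ∈ V) (hW : y ∈ W) (x : Γ(Y, V)) :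
    (Coh.toAb (RefHull.homSh (gΩ q g) (Omega.conormal i))).obj.obj (op W) →+
      (Omega.conormal i).presheaf.stalk y where
  toFun s := (show Γ(RefHull.homSh (gΩ q g) (Omega.conormal i), W) from s).1 ⟨y, hW⟩ (gen q g V y hy x)
  map_zero' := rfl
  map_add' _ _ := rfl

omit hi in
lemma ev_res {W W' : T₀.Opens} (h : W' ≤ W) (V : Y.Opens) (y : T₀) (hy : g y ∈ V) (hW : y ∈ W') (x : Γ(Y, V))
    (s : (Coh.toAb (RefHull.homSh (gΩ q g) (Omega.conormal i))).obj.obj (op W)) :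
    ev V y hy hW x (Groth.Agent.Lib.Cech.Complex.res _ h s) = ev V y hy (h hW) x s := rfl

omit hi in
lemma ev_secOf {W : T₀.Opens} (δ : DerOn q g (Omega.conormal i) W) (V : Y.Opens) (y : T₀) (hy : g y ∈ V)
    (hW : y ∈ W) (x : Γ(Y, V)) :
    ev V y hy hW x (secOf δ) = (Omega.conormal i).presheaf.germ (g ⁻¹ᵁ V ⊓ W) y ⟨hy, hW⟩ (δ.d V x) :=
  secOf_gen δ ⟨y, hW⟩ V hy x

omit hi in
lemma ev_ext {W : T₀.Opens} {s t : (Coh.toAb (RefHull.homSh (gΩ q g) (Omega.conormal i))).obj.obj (op W)}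
    (h : ∀ (V : Y.Opens) (y : T₀) (hy : g y ∈ V) (hW : y ∈ W) (x : Γ(Y, V)), ev V y hy hW x s = ev V y hy hW x t) :
    s = t :=
  sec_ext (q := q) (g := g) (M := Omega.conormal i) fun y V hy x => h V y.1 hy y.2 x

lemma ev_cochain (hg : g ≫ q = i ≫ p) {ι : Type u} (U : ι → T₀.Opens) (a : ∀ j, L p q i g (U j))
    (k : Fin 2 → ι) {W : T₀.Opens} (h0 : W ≤ U (k 0)) (h1 : W ≤ U (k 1)) (hW : W ≤ inter U k)
    (V : Y.Opens) (y : T₀) (hy : g y ∈ V) (hyW : y ∈ W) (x : Γ(Y, V)) :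
    ev V y hy (hW hyW) x (cochain hg U a k) =
      (Omega.conormal i).presheaf.germ (g ⁻¹ᵁ V ⊓ W) y ⟨hy, hyW⟩
        ((diff hg (restrict hg (a (k 1)) h1) (restrict hg (a (k 0)) h0)).d V x) := by
  refine (ev_secOf _ V y hy (hW hyW) x).trans ?_
  rw [← germ_derRestrict _ hW V y hy hyW x]
  refine congrArg _ (μ_injective i _ ?_)
  show μ i _ ((Omega.conormal i).presheaf.map _ _) = _
  rw [μ_res, μ_diff, μ_diff, map_sub]
  show rres i _ (rres i _ _) - rres i _ (rres i _ _) = rres i _ _ - rres i _ _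
  rw [rres_rres, rres_rres]

lemma triangle (hg : g ≫ q = i ≫ p) {U₀ U₁ U₂ W : T₀.Opens} (a₀ : L p q i g U₀) (a₁ : L p q i g U₁)
    (a₂ : L p q i g U₂) (h₀ : W ≤ U₀) (h₁ : W ≤ U₁) (h₂ : W ≤ U₂) (V : Y.Opens) (x : Γ(Y, V)) :
    (diff hg (restrict hg a₂ h₂) (restrict hg a₁ h₁)).d V x -
      (diff hg (restrict hg a₂ h₂) (restrict hg a₀ h₀)).d V x +
      (diff hg (restrict hg a₁ h₁) (restrict hg a₀ h₀)).d V x = 0 := by
  refine μ_injective i _ ?_
  rw [map_add, map_sub, μ_diff, μ_diff, μ_diff, map_zero]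
  ring

theorem dC_cochain (hg : g ≫ q = i ≫ p) {ι : Type u} (U : ι → T₀.Opens) (a : ∀ j, L p q i g (U j)) :
    dC U _ 1 (cochain hg U a) = 0 := by
  funext k
  refine ev_ext fun V y hy hyW x => ?_
  have h : ∀ m : Fin 3, inter U k ≤ U (k m) := inter_le U k
  rw [dC_apply, Fin.sum_univ_three]
  simp only [Fin.val_zero, pow_zero, one_smul, Fin.val_one, pow_one, neg_smul, Fin.val_two,
    neg_one_sq, map_add, map_neg, ev_res]
  rw [ev_cochain hg U a _ (h _) (h _) (inter_le_face U k 0) V y hy hyW x,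
    ev_cochain hg U a _ (h _) (h _) (inter_le_face U k 1) V y hy hyW x,
    ev_cochain hg U a _ (h _) (h _) (inter_le_face U k 2) V y hy hyW x,
    ← sub_eq_add_neg, ← map_sub, ← map_add]
  exact ((congrArg _ (triangle hg (a (k 0)) (a (k 1)) (a (k 2)) (h 0) (h 1) (h 2) V x)).trans
    (map_zero _)).trans (map_zero _).symm

/-- Local lifts can be corrected to a global one. -/
theorem exists_hom (hg : g ≫ q = i ≫ p)
    (h1 : Subsingleton (Coh.HH T₀ (RefHull.homSh (gΩ q g) (Omega.conormal i)) 1))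
    {ι : Type u} (U : ι → T₀.Opens) (hU : iSup U = ⊤) (a : ∀ j, L p q i g (U j)) :
    ∃ b : T ⟶ Y, i ≫ b = g ∧ b ≫ q = p := by
  let F := Coh.toAb (RefHull.homSh (gΩ q g) (Omega.conormal i))
  obtain ⟨s, hs⟩ := Groth.Agent.H95.Torsor.exists_coboundary (X := T₀.toTopCat) F h1 U hU
    (cochain hg U a) (dC_cochain hg U a)
  have hle : ∀ j, U j ≤ inter U fun _ : Fin 1 => j := fun j => le_iInf fun _ => le_rfl
  choose δ hδ using fun j => exists_der (q := q) (g := g) (M := Omega.conormal i)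
    (-(show Γ(RefHull.homSh (gΩ q g) (Omega.conormal i), U j) from Groth.Agent.Lib.Cech.Complex.res F.obj (hle j) (s fun _ => j)))
  have hev : ∀ j V (y : T₀) (hy : g y ∈ V) (hW : y ∈ U j) x,
      (Omega.conormal i).presheaf.germ (g ⁻¹ᵁ V ⊓ U j) y ⟨hy, hW⟩ ((δ j).d V x) =
        -ev V y hy (hle j hW) x (s fun _ => j) := fun j V y hy hW x => by
    rw [← ev_secOf (δ j) V y hy hW x, hδ]
    rfl
  obtain ⟨b, -⟩ := Lift.exists_glue hg U (W := ⊤) (fun _ => le_top) hU.ge (fun j => add (a j) (δ j)) fun j k => by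
    refine L.ext (funext fun V => RingHom.ext fun x => ?_)
    have h0 : U j ⊓ U k ≤ U j := inf_le_left
    have h1 : U j ⊓ U k ≤ U k := inf_le_right
    have hW : U j ⊓ U k ≤ inter U ![j, k] := le_iInf fun e => by
      fin_cases e
      · exact inf_le_left
      · exact inf_le_right
    have key : (derRestrict (δ j) h0).d V x - (derRestrict (δ k) h1).d V x =
        (diff hg (restrict hg (a k) h1) (restrict hg (a j) h0)).d V x := by
      refine TopCat.Presheaf.section_ext (⟨(Omega.conormal i).presheaf, (Omega.conormal i).isSheaf⟩ :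
        TopCat.Sheaf Ab T₀.toTopCat) _ _ _ fun z hz => ?_
      show (Omega.conormal i).presheaf.germ _ z hz (_ - _) = (Omega.conormal i).presheaf.germ _ z hz _
      rw [map_sub, germ_derRestrict _ _ V z hz.1 hz.2, germ_derRestrict _ _ V z hz.1 hz.2,
        hev j V z hz.1 hz.2.1, hev k V z hz.1 hz.2.2]
      refine Eq.trans ?_ (ev_cochain hg U a ![j, k] h0 h1 hW V z hz.1 hz.2 x)
      rw [show cochain hg U a ![j, k] = _ from (congr_fun hs ![j, k]).symm, dC_apply, Fin.sum_univ_two]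
      simp only [F, Fin.val_zero, pow_zero, one_smul, Fin.val_one, pow_one, neg_smul, map_add, map_neg, ev_res]
      have e0 : ∀ (m : Fin 1 → ι) (l : ι), m 0 = l → ∀ (h : z ∈ inter U m) (h' : z ∈ inter U fun _ : Fin 1 => l),
          ev V z hz.1 h x (s m) = ev V z hz.1 h' x (s fun _ => l) := by
        intro m l hml h h'
        obtain rfl : m = fun _ => l := funext fun e => by rw [Subsingleton.elim e 0, hml]
        rfl
      refine Eq.trans ?_ (congrArg₂ (fun u v => u + -v)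
        (e0 (![j, k] ∘ (0 : Fin 2).succAbove) k rfl (inter_le_face U ![j, k] 0 (hW hz.2)) (hle k hz.2.2))
        (e0 (![j, k] ∘ (1 : Fin 2).succAbove) j rfl (inter_le_face U ![j, k] 1 (hW hz.2)) (hle j hz.2.1))).symm
      abel
    have e := congrArg (μ i _) key
    rw [map_sub, μ_diff] at e
    show rres i _ ((a j).φ V x + μ i _ ((δ j).d V x)) = rres i _ ((a k).φ V x + μ i _ ((δ k).d V x))
    rw [map_add, map_add, ← μ_res, ← μ_res]
    simp only [restrict, RingHom.comp_apply] at e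
    change μ i _ ((derRestrict (δ j) h0).d V x) - μ i _ ((derRestrict (δ k) h1).d V x) = _ at e
    show _ + μ i _ ((derRestrict (δ j) h0).d V x) = _ + μ i _ ((derRestrict (δ k) h1).d V x)
    linear_combination e
  exact ⟨toMor b, comp_toMor b, toMor_comp hg b⟩

end Groth.Agent.H26.SqU.Coboundary
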